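import Groth.Agent.Brown.Basic
import Groth.Prelude.Def_CohDer
import Groth.Agent.CohDerTri.Compact
import Mathlib.CategoryTheory.Triangulated.HomologicalFunctor
import Mathlib.CategoryTheory.Triangulated.Yoneda
import Mathlib.CategoryTheory.Triangulated.Opposite.Pretriangulated
import Mathlib.CategoryTheory.Adjunction.PartialAdjoint
import Mathlib.CategoryTheory.Limits.Types.Limits
import Mathlib.CategoryTheory.Limits.Shapes.Opposites.Products
import Mathlib.Algebra.Category.Grp.Limits
import Mathlib.Algebra.Homology.ShortComplex.Ab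
import Mathlib.CategoryTheory.Limits.Preserves.Shapes.Products

/-!
Consequences of Brown representability.
-/

set_option autoImplicit false
set_option linter.unusedSectionVars false
universe v u u' w

namespace Groth.Agent.Brown

open CategoryTheory Limits Pretriangulated Opposite

variable {D : Type u} [Category.{v} D]

lemma bijective_res {H : Dᵒᵖ ⥤ AddCommGrpCat.{v}} {J : Type w} (X : J → D) [HasCoproduct X]
    [PreservesLimitsOfShape (Discrete J) (H ⋙ forget AddCommGrpCat.{v})] :
    Function.Bijective fun (a : H.obj (op (∐ X))) (j : J) => res H (Sigma.ι X j) a := by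
  have h := isLimitOfPreserves (H ⋙ forget AddCommGrpCat.{v})
    (Cofan.IsColimit.op (coproductIsCoproduct X))
  obtain ⟨hbij⟩ : Nonempty _ := ⟨(Types.isLimit_iff_bijective_sectionOfCone _).1 ⟨h⟩⟩
  refine ⟨fun a b hab => hbij.1 (Subtype.ext (funext fun j => congrFun hab j.as)), fun f => ?_⟩
  obtain ⟨a, ha⟩ := hbij.2 ⟨fun j => f j.as, fun {j j'} g => by
    obtain ⟨j⟩ := j; obtain ⟨j'⟩ := j'
    obtain rfl := Discrete.eq_of_hom g
    obtain rfl : g = 𝟙 _ := Subsingleton.elim _ _
    simp⟩
  exact ⟨a, funext fun j => congrFun (congrArg Subtype.val ha) ⟨j⟩⟩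

variable [Preadditive D] [HasZeroObject D] [HasShift D ℤ]
  [∀ n : ℤ, (shiftFunctor D n).Additive] [Pretriangulated D]

lemma isBrown_of_isHomological (H : Dᵒᵖ ⥤ AddCommGrpCat.{v}) [H.IsHomological]
    [∀ J : Type v, PreservesLimitsOfShape (Discrete J) H] [HasColimitsOfShape (Discrete ℕ) D] :
    IsBrown H where
  additive := inferInstance
  exact T hT y hy := by
    have h := H.map_distinguished_exact _ (op_distinguished T hT)
    rw [ShortComplex.ab_exact_iff] at h
    exact h y hy
  pi X := bijective_res X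
  piNat X := by
    have : PreservesLimitsOfShape (Discrete ℕ) H :=
      preservesLimitsOfShape_of_equiv (Discrete.equivalence Equiv.ulift.{v}) H
    exact bijective_res X

section shifts

variable [HasColimitsOfShape (Discrete ℕ) D] {ι : Type w} (E : ι → D)

/-- the shift closure of a family -/
def shifts (k : ι × ℤ) : D := (E k.1)⟦k.2⟧

lemma exists_shifts_neg (k : ι × ℤ) : ∃ k', Nonempty (shifts E k' ≅ (shifts E k)⟦(-1 : ℤ)⟧) :=
  ⟨(k.1, k.2 + (-1)), ⟨(shiftFunctorAdd D k.2 (-1)).app (E k.1)⟩⟩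

lemma perfect_shifts (h2 : Perfect E) : Perfect (shifts E) := by
  rintro X ⟨i, n⟩ α
  let e := shiftEquiv D n
  let adj := e.toAdjunction
  obtain ⟨j, β, γ, hγ⟩ := h2 (fun m => e.inverse.obj (X m)) i
    (adj.homEquiv _ _ α ≫ inv (sigmaComparison e.inverse X))
  have : e.functor.IsLeftAdjoint := adj.isLeftAdjoint
  haveI : PreservesColimitsOfShape (Discrete ℕ) e.functor :=
    adj.leftAdjoint_preservesColimits.preservesColimitsOfShape
  let ic : e.functor.obj (∐ fun m => E (j m)) ⟶ ∐ fun m => e.functor.obj (E (j m)) :=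
    inv (sigmaComparison e.functor fun m => E (j m))
  refine ⟨fun m => (j m, n), fun m => (adj.homEquiv _ _).symm (β m),
    e.functor.map γ ≫ ic, ?_⟩
  have hα : α = (adj.homEquiv _ _).symm (γ ≫ Limits.Sigma.map β ≫ sigmaComparison e.inverse X) := by
    rw [← reassoc_of% hγ, IsIso.inv_hom_id, Category.comp_id]
    exact ((adj.homEquiv _ _).symm_apply_apply α).symm
  have hmap : sigmaComparison e.functor (fun m => E (j m)) ≫
      e.functor.map (Limits.Sigma.map β ≫ sigmaComparison e.inverse X) ≫ adj.counit.app (∐ X) =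
        Limits.Sigma.map fun m => (adj.homEquiv _ _).symm (β m) :=
    Sigma.hom_ext _ _ fun m => by
      rw [ι_comp_sigmaComparison_assoc, ← Functor.map_comp_assoc, Sigma.ι_map_assoc,
        ι_comp_sigmaComparison, Functor.map_comp_assoc, Sigma.ι_map, adj.homEquiv_counit,
        Category.assoc]
      congr 1
      exact adj.counit.naturality (Sigma.ι X m)
  refine hα.trans ?_
  rw [adj.homEquiv_counit, Functor.map_comp, Category.assoc]
  show _ = (e.functor.map γ ≫ ic) ≫
    Limits.Sigma.map fun m => (adj.homEquiv _ _).symm (β m)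
  rw [← hmap, Category.assoc, IsIso.inv_hom_id_assoc, Functor.map_comp, Category.assoc]

lemma eq_zero_shifts {Z : D} (hgen : CohDer.Generates E)
    (h : ∀ k (f : shifts E k ⟶ Z), f = 0) : IsZero Z := by
  refine hgen Z fun i n f => ?_
  let adj := (shiftEquiv' D (-n) n (by lia)).toAdjunction
  apply (adj.homEquiv (E i) Z).symm.injective
  exact (h (i, -n) _).trans (h (i, -n) _).symm

lemma isZero_of_forall_hom (h1 : ∀ X : D, ¬ IsZero X → ∃ (i : ι) (f : E i ⟶ X), f ≠ 0)
    (Z : D) (h : ∀ k (f : shifts E k ⟶ Z), f = 0) : IsZero Z := by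
  by_contra hZ
  obtain ⟨i, f, hf⟩ := h1 Z hZ
  apply hf
  have := h (i, (0 : ℤ)) (((shiftFunctorZero D ℤ).app (E i)).hom ≫ f)
  exact (cancel_epi ((shiftFunctorZero D ℤ).app (E i)).hom).1 (this.trans comp_zero.symm)

end shifts

section

variable [HasCoproducts.{v} D] {ι : Type v} (E : ι → D)

theorem isRepresentable_of_perfect [HasColimitsOfShape (Discrete ℕ) D]
    (h1 : ∀ X : D, ¬ IsZero X → ∃ (i : ι) (f : E i ⟶ X), f ≠ 0) (h2 : Perfect E)
    {H : Dᵒᵖ ⥤ AddCommGrpCat.{v}} (hH : IsBrown H) :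
    (H ⋙ forget AddCommGrpCat.{v}).IsRepresentable :=
  isRepresentable (perfect_shifts E h2) (exists_shifts_neg E) (isZero_of_forall_hom E h1) hH

lemma hasColimitsOfShape_nat : HasColimitsOfShape (Discrete ℕ) D :=
  hasColimitsOfShape_of_equivalence (Discrete.equivalence Equiv.ulift.{v})

lemma perfect_of_isCompactObject [HasColimitsOfShape (Discrete ℕ) D]
    (hE : ∀ i, CohDer.IsCompactObject (E i)) : Perfect E := by
  classical
  intro X k α
  let φ : (∐ fun m : ULift.{v} ℕ => X m.down) ⟶ ∐ X := Sigma.desc fun m => Sigma.ι X m.down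
  let ψ : ∐ X ⟶ ∐ fun m : ULift.{v} ℕ => X m.down :=
    Sigma.desc fun m => Sigma.ι (fun m : ULift.{v} ℕ => X m.down) ⟨m⟩
  obtain ⟨x, hx⟩ := (hE k _ (fun m : ULift.{v} ℕ => X m.down)).2 (α ≫ ψ)
  refine ⟨fun _ => k, fun m => x ⟨m⟩,
    ∑ m ∈ DFinsupp.support x, Sigma.ι (fun _ : ℕ => E k) m.down, ?_⟩
  have h : ψ ≫ φ = 𝟙 _ := Sigma.hom_ext _ _ fun m => by simp [φ, ψ]
  rw [← Category.comp_id α, ← h, ← reassoc_of% hx, Preadditive.sum_comp]
  conv_lhs => rw [← DirectSum.sum_support_of x, map_sum, Preadditive.sum_comp]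
  refine Finset.sum_congr rfl fun m _ => ?_
  rw [CohDerTri.homSum_of, Category.assoc]
  simp [φ]

theorem isRepresentable_of_compact [HasColimitsOfShape (Discrete ℕ) D]
    (hE : ∀ i, CohDer.IsCompactObject (E i)) (hgen : CohDer.Generates E)
    {H : Dᵒᵖ ⥤ AddCommGrpCat.{v}} (hH : IsBrown H) :
    (H ⋙ forget AddCommGrpCat.{v}).IsRepresentable :=
  isRepresentable (perfect_shifts E (perfect_of_isCompactObject E hE)) (exists_shifts_neg E)
    (fun _ h => eq_zero_shifts E hgen h) hH

variable {D' : Type u'} [Category.{v} D'] [Preadditive D'] [HasZeroObject D'] [HasShift D' ℤ]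
  [∀ n : ℤ, (shiftFunctor D' n).Additive] [Pretriangulated D'] [HasColimitsOfShape (Discrete ℕ) D]

lemma bijective_of_preserves {J : Type w} (F : D ⥤ D') (Y : D') (X : J → D) [HasCoproduct X]
    [PreservesColimitsOfShape (Discrete J) F] :
    Function.Bijective fun (a : (F.op ⋙ preadditiveYoneda.obj Y).obj (op (∐ X))) (j : J) =>
      res (F.op ⋙ preadditiveYoneda.obj Y) (Sigma.ι X j) a := by
  let hc := isColimitCofanMkObjOfIsColimit F X _ (coproductIsCoproduct X)
  exact ⟨fun a b hab => Cofan.IsColimit.hom_ext hc _ _ fun j => congrFun hab j,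
    fun f => ⟨Cofan.IsColimit.desc hc f, funext fun j => Cofan.IsColimit.fac hc f j⟩⟩

lemma isBrown_yoneda (F : D ⥤ D') [F.CommShift ℤ] [F.IsTriangulated]
    [∀ J : Type v, PreservesColimitsOfShape (Discrete J) F] (Y : D') :
    IsBrown (F.op ⋙ preadditiveYoneda.obj Y) where
  additive := inferInstance
  exact T hT y hy := by
    obtain ⟨z, hz⟩ := Triangle.yoneda_exact₂ _ (F.map_distinguished _ hT) y hy
    exact ⟨z, hz.symm⟩
  pi {J} X _ := bijective_of_preserves F Y X
  piNat X := by
    have : PreservesColimitsOfShape (Discrete ℕ) F :=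
      preservesColimitsOfShape_of_equiv (Discrete.equivalence Equiv.ulift.{v}) F
    exact bijective_of_preserves F Y X

theorem isLeftAdjoint_of_isRepresentable (F : D ⥤ D')
    (h : ∀ Y, ((F.op ⋙ preadditiveYoneda.obj Y) ⋙ forget AddCommGrpCat.{v}).IsRepresentable) :
    F.IsLeftAdjoint := by
  refine Functor.isLeftAdjoint_of_rightAdjointObjIsDefined_eq_top ?_
  ext Y
  simp only [Pi.top_apply, Prop.top_eq_true, iff_true]
  rw [Functor.rightAdjointObjIsDefined_iff]
  exact ⟨_, ⟨(h Y).has_representation.choose_spec.some⟩⟩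

end

end Groth.Agent.Brown
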